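import Cfsg.Agent.Lib.CosetEnum.ONOut.Data2

/-! Kernel checks for the outer automorphism of the O'Nan group. -/

set_option autoImplicit false
set_option maxRecDepth 20000
set_option Elab.async false

namespace Cfsg.Agent.Lib.CosetEnum.ONOut

open Cfsg.Agent.Lib.CosetEnum

theorem count_bad2 : cntBelow 5586 (movedFixed3 (badReps.getD 2 [])) = 98 := by decide +kernel

end Cfsg.Agent.Lib.CosetEnum.ONOut
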