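import Cfsg.Agent.Lib.CosetEnum.ONOut.Data2

/-! Kernel checks for the outer automorphism of the O'Nan group. -/

set_option autoImplicit false
set_option maxRecDepth 20000
set_option Elab.async false

namespace Cfsg.Agent.Lib.CosetEnum.ONOut

open Cfsg.Agent.Lib.CosetEnum

theorem rels_ok : ON122760.letters.RL.all (fun l => eqW T122 bG (substL img l) []) = true := by
  decide +kernel

end Cfsg.Agent.Lib.CosetEnum.ONOut
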