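import Cfsg.Agent.Lib.CosetEnum.ONOut.Data2

/-! Kernel checks for the outer automorphism of the O'Nan group. -/

set_option autoImplicit false
set_option maxRecDepth 20000
set_option Elab.async false

namespace Cfsg.Agent.Lib.CosetEnum.ONOut

open Cfsg.Agent.Lib.CosetEnum

theorem trip_ok : tripOKK TT bG (8 + (tripWords img wx ws wt extraWords).length) tripK reps = true := by
  decide +kernel

theorem trip_lists : tripK.X.map (fun u => (tripWords img wx ws wt extraWords).getD (u - 8) []) =
      xsJ.map (embWord emb) ∧
    (csJ.flatMap fun a => conn.map fun c => embWord emb a ++ c).all (fun w =>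
      (tripK.U.map (fun u => (tripWords img wx ws wt extraWords).getD (u - 8) [])).any (eqList w)) = true ∧
    (tripK.X ++ tripK.U).all (fun u => Nat.ble 8 u) = true := by
  decide +kernel

end Cfsg.Agent.Lib.CosetEnum.ONOut
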