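import Cfsg.Agent.Lib.CosetEnum.ONOut.Defs

/-! A fixed point check. -/

set_option autoImplicit false
set_option maxRecDepth 20000
set_option Elab.async false

namespace Cfsg.Agent.Lib.CosetEnum.ONOut

open Cfsg.Agent.Lib.CosetEnum

theorem fixS_part0b : allFrom 15345 15345
    (fun i => !(Nat.beq (app T122 ws i) i) || (goodPts ++ badPts).any (Nat.beq i)) = true := by
  decide +kernel

end Cfsg.Agent.Lib.CosetEnum.ONOut
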