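import Cfsg.Agent.Lib.CosetEnum.ONOut.Defs

/-! A fixed point check. -/

set_option autoImplicit false
set_option maxRecDepth 20000
set_option Elab.async false

namespace Cfsg.Agent.Lib.CosetEnum.ONOut

open Cfsg.Agent.Lib.CosetEnum

theorem fixX_part1 : allFrom 61380 61380
    (fun i => !(Nat.beq (app T122 wx i) i) || Nat.beq i 0) = true := by
  decide +kernel

end Cfsg.Agent.Lib.CosetEnum.ONOut
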