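import Cfsg.Agent.Lib.CosetEnum.ONOut.CheckJ
import Cfsg.Agent.Lib.CosetEnum.ONOut.FixX0
import Cfsg.Agent.Lib.CosetEnum.ONOut.FixX1
import Cfsg.Agent.Lib.CosetEnum.ONOut.FixS0
import Cfsg.Agent.Lib.CosetEnum.ONOut.FixS0b
import Cfsg.Agent.Lib.CosetEnum.ONOut.FixS1
import Cfsg.Agent.Lib.CosetEnum.ONOut.FixS1b
import Cfsg.Agent.Lib.CosetEnum.ONOut.FixS2
import Cfsg.Agent.Lib.CosetEnum.ONOut.FixS2b
import Cfsg.Agent.Lib.CosetEnum.ONOut.FixS3
import Cfsg.Agent.Lib.CosetEnum.ONOut.FixS3b
import Cfsg.Agent.Lib.CosetEnum.ONOut.CheckB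
import Cfsg.Agent.Lib.CosetEnum.ONOut.CheckB0
import Cfsg.Agent.Lib.CosetEnum.ONOut.CheckB1
import Cfsg.Agent.Lib.CosetEnum.ONOut.CheckB2
import Cfsg.Agent.Lib.CosetEnum.ONOut.CheckT
import Cfsg.Agent.Lib.CosetEnum.ONOut.CheckR
import Cfsg.Agent.Lib.CosetEnum.ONOut.CheckG
import Cfsg.Agent.Lib.CosetEnum.ONOut.CheckK0
import Cfsg.Agent.Lib.CosetEnum.ONOut.CheckK1
import Cfsg.Agent.Lib.CosetEnum.ONOut.CheckK2

/-! Kernel checks for the outer automorphism of the O'Nan group. -/

set_option autoImplicit false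
set_option maxRecDepth 20000
set_option Elab.async false

namespace Cfsg.Agent.Lib.CosetEnum.ONOut

open Cfsg.Agent.Lib.CosetEnum

theorem bases_ok : get32 ON122760.orbPts3 0 = 12 ∧ get32 ON122760.orbPts3 1 = 40 ∧
    get32 ON122760.orbPts3 3 = 28 ∧ get32 ON122760.orbPts3 5 = 77 ∧ get32 ON122760.orbPts3 9 = 185 := by
  decide +kernel

theorem good_ok : goodPts.length = conn.length ∧ allBelow goodPts.length (fun b =>
    (conn.getD b []).all (fun k => Nat.blt k 8) &&
    Nat.beq (app T122 (conn.getD b []) 0) (goodPts.getD b 0) &&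
    eqW T122 bG (ws ++ conn.getD b []) (conn.getD b [] ++ ws)) = true := by
  decide +kernel

theorem img_ok : allBelow ON122760.letters.K (fun g =>
    (img.getD g []).all (fun k => Nat.blt k ON122760.letters.K)) = true := by
  decide +kernel

theorem img_ne : eqW T122 bG (img.getD 0 []) [] = false := by decide +kernel

theorem words_ok : ([wx, ws, wt] ++ extraWords).all (fun w => w.all fun k => Nat.blt k 8) = true := by
  decide +kernel

theorem ws3_ok : (ws3.all (fun k => Nat.blt k 8) && eqW T122 bG ws3 (ws ++ ws ++ ws)) = true := by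
  decide +kernel

theorem bad_ok : badPts.length = badReps.length ∧ allBelow badPts.length (fun b =>
    (badReps.getD b []).all (fun k => Nat.blt k 8) &&
    Nat.beq (app T122 (badReps.getD b []) 0) (badPts.getD b 0)) = true := by
  decide +kernel

theorem count_ne : ∀ b < 3,
    cntBelow 5586 (movedFixed3 (badReps.getD b [])) ≠ cntBelow 5586 (movedFixed3 [])
  | 0, _ => by rw [count_bad0, count_none]; decide
  | 1, _ => by rw [count_bad1, count_none]; decide
  | 2, _ => by rw [count_bad2, count_none]; decide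
  | _ + 3, h => absurd h (by omega)

theorem cand_ok : ∀ k ∈ reps, tripK.U.all (candOK TT bG tripK k) = true := by
  intro k hk
  simp only [reps, List.mem_cons, List.not_mem_nil, or_false] at hk
  rcases hk with rfl | rfl | rfl
  exacts [cand0, cand1, cand2]

theorem fixS_part0 : allFrom 0 30690
    (fun i => !(Nat.beq (app T122 ws i) i) || (goodPts ++ badPts).any (Nat.beq i)) = true :=
  allFrom_iff.2 fun i h1 h2 => by
    rcases Nat.lt_or_ge i 15345 with h | h
    · exact allFrom_iff.1 fixS_part0a i h1 (by omega)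
    · exact allFrom_iff.1 fixS_part0b i h (by omega)

theorem fixS_part1 : allFrom 30690 30690
    (fun i => !(Nat.beq (app T122 ws i) i) || (goodPts ++ badPts).any (Nat.beq i)) = true :=
  allFrom_iff.2 fun i h1 h2 => by
    rcases Nat.lt_or_ge i 46035 with h | h
    · exact allFrom_iff.1 fixS_part1a i h1 (by omega)
    · exact allFrom_iff.1 fixS_part1b i h (by omega)

theorem fixS_part2 : allFrom 61380 30690
    (fun i => !(Nat.beq (app T122 ws i) i) || (goodPts ++ badPts).any (Nat.beq i)) = true :=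
  allFrom_iff.2 fun i h1 h2 => by
    rcases Nat.lt_or_ge i 76725 with h | h
    · exact allFrom_iff.1 fixS_part2a i h1 (by omega)
    · exact allFrom_iff.1 fixS_part2b i h (by omega)

theorem fixS_part3 : allFrom 92070 30690
    (fun i => !(Nat.beq (app T122 ws i) i) || (goodPts ++ badPts).any (Nat.beq i)) = true :=
  allFrom_iff.2 fun i h1 h2 => by
    rcases Nat.lt_or_ge i 107415 with h | h
    · exact allFrom_iff.1 fixS_part3a i h1 (by omega)
    · exact allFrom_iff.1 fixS_part3b i h (by omega)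


end Cfsg.Agent.Lib.CosetEnum.ONOut
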