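import Cfsg.Agent.Lib.CosetEnum.ONOut.Defs

/-! Kernel checks in the point stabiliser. -/

set_option autoImplicit false
set_option maxRecDepth 20000
set_option Elab.async false

namespace Cfsg.Agent.Lib.CosetEnum.ONOut

open Cfsg.Agent.Lib.CosetEnum

theorem ws_local : (wordsJ ++ gensX ++ gensS).all (fun w => w.all fun k => Nat.blt k 6) = true := by
  decide +kernel

theorem tables_ok : wordsTabled 6 5586 ONOrbit.table permsX gensX = true ∧
    wordsTabled 6 5586 ONOrbit.table permsS gensS = true := by
  decide +kernel

theorem chainX_ok : levelsOK gensX.length 5586 permsX (levX0 :: chainX) [] = true ∧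
    chainSize (levX0 :: chainX) = 3753792 := by
  decide +kernel

theorem chainS_ok : levelsOK gensS.length 5586 permsS (levS0 :: chainS) [] = true ∧
    chainSize (levS0 :: chainS) = 3753792 := by
  decide +kernel

theorem centX_ok : cycBase (tabW T5586 6 wordsJ) 6 (levX0 :: chainX) = true ∧
    allBelow 5586 (centAt 5586 permsX (tabW T5586 6 wordsJ) 6 (levX0 :: chainX)
      (List.range' 8 xsJ.length)) = true := by
  decide +kernel

theorem centS_ok : cycBase (tabW T5586 6 wordsJ) 7 (levS0 :: chainS) = true ∧
    allBelow 5586 (centAt 5586 permsS (tabW T5586 6 wordsJ) 7 (levS0 :: chainS)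
      (List.range' (8 + xsJ.length) csJ.length)) = true := by
  decide +kernel


end Cfsg.Agent.Lib.CosetEnum.ONOut
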