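import Cfsg.Agent.Lib.CosetEnum.ONOut.Defs
import Cfsg.Agent.Lib.CosetEnum.OutLettersK

/-! The triple with short relations, and the cube of s as a shorter word. -/

set_option autoImplicit false
set_option maxRecDepth 20000
set_option Elab.async false

namespace Cfsg.Agent.Lib.CosetEnum.ONOut

open Cfsg.Agent.Lib.CosetEnum

/-- Representatives of the exponents under the normaliser. -/
def reps : List ℕ := [1, 2, 4]

/-- The triple, the powers of s first among the centralising elements. -/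
def tripK : Trip where
  x := 8
  s := 9
  t := 10
  ex := 11
  es := 12
  et := 13
  p := 19
  r := 8
  e := 5
  X := [14, 15, 16, 17, 18, 19, 20, 21, 22, 23, 24, 25, 26, 27, 28, 29, 30, 31, 32]
  U := [45, 69, 93, 81, 87, 51, 33, 39, 57, 63, 75, 99, 46, 70, 94, 82, 88, 52, 34, 40, 58, 64, 76, 100, 47, 71, 95, 83, 89, 53, 35, 41, 59, 65, 77, 101, 48, 72, 96, 84, 90, 54, 36, 42, 60, 66, 78, 102, 49, 73, 97, 85, 91, 55, 37, 43, 61, 67, 79, 103, 50, 74, 98, 86, 92, 56, 38, 44, 62, 68, 80, 104]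
  rels := [[1, 1, 1, 2, 2],
    [0, 0, 1, 2, 0, 0, 2, 0, 0, 1, 2, 0, 0, 2, 0, 0, 1, 2, 0, 0, 2, 0, 0, 1, 2, 0, 0, 2, 0, 0, 1, 2, 0, 0, 2]]

/-- The cube of s. -/
def ws3 : List ℕ := [2, 3, 4, 5, 4, 3, 2, 6, 5, 4, 3, 5, 4, 5, 4, 6, 5, 4, 3, 7, 6, 5, 4, 5, 4, 6, 5, 4, 5, 3, 4, 5, 6, 7, 2, 3, 4, 5, 6, 4, 5, 3, 4, 5, 3, 4, 2, 3, 2]

/-- Whether point `m` of the suborbit, moved by `r`, is fixed by the cube of s. -/
noncomputable def movedFixed3 (r : List ℕ) (m : ℕ) : Bool :=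
  force (app T122 r (get32 ON122760.orbPts3 m)) fun q => Nat.beq (app T122 ws3 q) q

/-- The tables of the words of the certificate. -/
noncomputable def TT : ℕ → ℕ → ℕ := tabW T122 8 (tripWords img wx ws wt extraWords)

end Cfsg.Agent.Lib.CosetEnum.ONOut
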