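import Cfsg.Agent.Lib.CosetEnum.ONOrbit.Data
import Cfsg.Agent.Lib.CosetEnum.ON122760.Data
import Cfsg.Agent.Lib.CosetEnum.ON122760.Orbits
import Cfsg.Agent.Lib.CosetEnum.ONOut.Data

/-! The checkers for the outer automorphism of the O'Nan group. -/

set_option autoImplicit false
set_option maxRecDepth 20000
set_option Elab.async false

namespace Cfsg.Agent.Lib.CosetEnum

/-- The tables are those of the listed words. -/
noncomputable def wordsTabled (K N : ℕ) (T P : PTree) (W : List (List ℕ)) : Bool :=
  allBelow W.length fun k => allBelow N fun i =>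
    Nat.beq (get32 P (Nat.add (Nat.mul k N) i)) (scan K T (W.getD k []) i)

/-- The number of `i < n` satisfying `p`. -/
noncomputable def cntBelow (n : ℕ) (p : ℕ → Bool) : ℕ :=
  Nat.rec 0 (fun i ih => cond (p i) (Nat.succ ih) ih) n

namespace ONOut

open Cfsg.Agent.Lib.CosetEnum

/-- The table of a letter on the cosets. -/
noncomputable def T122 : ℕ → ℕ → ℕ := letTab 8 ON122760.table

/-- The table of a letter on the suborbit. -/
noncomputable def T5586 : ℕ → ℕ → ℕ := letTab 6 ONOrbit.table

/-- The local letters. -/
abbrev emb : List ℕ := ONOrbit.emb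

/-- The base on the suborbit. -/
def bJ : List ℕ := [0, 1, 3, 5, 9]

/-- The base on the cosets. -/
noncomputable def bG : List ℕ := [0, 12, 40, 28, 77, 185]

/-- The global words. -/
def wx : List ℕ := embWord emb wxJ

/-- The global word of s. -/
def ws : List ℕ := embWord emb wsJ

/-- The local words. -/
def wordsJ : List (List ℕ) := [wxJ, wsJ] ++ xsJ ++ csJ

/-- Whether point `m` of the suborbit, moved by `r`, is fixed by the cube of s. -/
noncomputable def movedFixed (r : List ℕ) (m : ℕ) : Bool :=
  force (app T122 r (get32 ON122760.orbPts3 m)) fun q => Nat.beq (app T122 (ws ++ ws ++ ws) q) q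

end ONOut

end Cfsg.Agent.Lib.CosetEnum
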