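import Cfsg.Agent.Lib.CosetEnum.ONOrbit.Facts
import Cfsg.Agent.Lib.CosetEnum.ONOut.Check

/-! The centralisers in the O'Nan group, and the outer automorphism group. -/

set_option autoImplicit false
set_option maxRecDepth 20000

namespace Cfsg.Agent.Lib.CosetEnum

theorem cntBelow_eq (n : ℕ) (p : ℕ → Bool) :
    cntBelow n p = ((Finset.univ : Finset (Fin n)).filter fun i => p i.1 = true).card := by
  induction n with
  | zero => rfl
  | succ n ih =>
    show cond (p n) (Nat.succ (cntBelow n p)) (cntBelow n p) = _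
    rw [ih, Finset.card_filter, Finset.card_filter, Fin.sum_univ_castSucc]
    simp only [Fin.val_castSucc, Fin.val_last]
    rcases Bool.eq_false_or_eq_true (p n) with h | h <;> simp [h]

theorem wordsTabled_sound {G : Type} [Group G] {N K : ℕ} {T P : PTree} {W : List (List ℕ)}
    (σ : G →* Equiv.Perm (Fin N)) (v : ℕ → G)
    (hv : ∀ g < K, ∀ i : Fin N, ((σ (v g))⁻¹ i).1 = get32 T (i.1 * K + g))
    (hW : ∀ w ∈ W, ∀ g ∈ w, g < K) (h : wordsTabled K N T P W = true) :
    ∀ k < W.length, ∃ x : G, ∀ i : Fin N, ((σ x)⁻¹ i).1 = get32 P (k * N + i.1) := by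
  intro k hk
  refine ⟨((W.getD k []).map v).prod, fun i => ?_⟩
  have h' := allBelow_iff.1 (allBelow_iff.1 h k hk) i.1 i.2
  simp only [Nat.beq_eq, Nat.add_eq, Nat.mul_eq] at h'
  rw [h']
  exact scan_of_table σ v hv _ (by rw [List.getD_eq_getElem _ _ hk]; exact hW _ (List.getElem_mem _)) i

theorem Tight.base_eq_one {G : Type} [Group G] {N E : ℕ} {P : PTree} (σ : G →* Equiv.Perm (Fin N))
    (hinj : Function.Injective σ) (hP : ∀ k < E, ∃ x : G, ∀ i : Fin N, ((σ x)⁻¹ i).1 = get32 P (k * N + i.1))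
    (ls : List OrbLevel) (h : levelsOK E N P ls [] = true) (order : ℕ)
    (hcard : Nat.card (fixList σ []) ≤ order) (hsize : chainSize ls = order) (g : G)
    (hg : ∀ b : Fin N, b.1 ∈ ls.map OrbLevel.base → (σ g)⁻¹ b = b) : g = 1 := by
  refine hinj ?_
  rw [map_one, ← inv_eq_one]
  exact Tight.eq_one σ (tight_of_levels σ hP ls [] h (hsize ▸ hcard)) _
    ⟨⟨g⁻¹, map_inv _ _⟩, by simp⟩ fun l hl b hb => hg b (List.mem_map.2 ⟨l, hl, hb.symm⟩)

namespace ONOut

open Cfsg.Agent.Lib.CosetEnum

theorem out_two [IsSimpleGroup ONOrbit.G] (hS : SameRels ON122760.letters ON122760.pres) :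
    Nat.card (Cfsg.Out ONOrbit.G) = 2 := by
  classical
  obtain ⟨ρ, hρ, hst, htr, hinj, hG, hJ⟩ := ONOrbit.main
  haveI : Finite ONOrbit.G := Nat.finite_of_card_ne_zero (by rw [hG]; omega)
  haveI : Finite ONOrbit.J := Nat.finite_of_card_ne_zero (by rw [hJ]; omega)
  obtain ⟨ρJ, hρJ, hker⟩ := exists_restrict ρ hρ emb (by decide +kernel) _ _ _ ONOrbit.restrict_ok
  let gen : ℕ → ONOrbit.J := fun g => if hg : g < emb.length then
    ⟨ON122760.letters.phi _ (emb.getD g 0), Subgroup.subset_closure ⟨[emb.getD g 0],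
      List.mem_map.2 ⟨_, by rw [List.getD_eq_getElem _ _ hg]; exact List.getElem_mem hg, rfl⟩,
      by simp⟩⟩ else 1
  have hgen : ∀ g < 6, ∀ m : Fin 5586, ((ρJ (gen g))⁻¹ m).1 = get32 ONOrbit.table (m.1 * 6 + g) :=
    fun g hg m => by
      have hg' : g < emb.length := hg
      simp only [gen, dif_pos hg']
      exact hρJ g hg' m
  have hjge : 3753792 ≤ Nat.card ρJ.range := ONSlp.card_ge ρJ gen hgen
  have hJinj : Function.Injective ρJ := injective_of_card ρJ ⟨by rw [hJ]; omega, hJ.le⟩ hjge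
  have hfix : Nat.card (fixList ρJ []) ≤ 3753792 := by
    refine (Nat.card_le_card_of_injective (fun σ : fixList ρJ [] => (⟨σ.1, σ.2.1⟩ : ρJ.range))
      fun a b hab => Subtype.ext (congrArg (fun z : ρJ.range => z.1) hab)).trans ?_
    exact (Nat.card_le_card_of_surjective ρJ.rangeRestrict ρJ.rangeRestrict_surjective).trans hJ.le
  -- the suborbit
  have hj := allBelow_iff.1 ONOrbit.restrict_ok
  simp only [restrictAt, force_eq, Bool.and_eq_true, Nat.blt_eq, Nat.beq_eq, allBelow_iff,
    Nat.add_eq, Nat.mul_eq] at hj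
  let f : Fin 5586 → Fin 122760 := fun m => ⟨get32 ON122760.orbPts3 m.1, (hj m.1 m.2).1.1⟩
  have hrelGen : ∀ g < 6, ∀ m : Fin 5586, f ((ρJ (gen g))⁻¹ m) = (ρ (gen g).1)⁻¹ (f m) := by
    intro g hg m
    apply Fin.ext
    have hg' : g < emb.length := hg
    have h := ((hj m.1 m.2).2 g hg').2
    have hl : emb.getD g 0 < ON122760.letters.K := by
      have := List.all_eq_true.1 (by decide +kernel : emb.all (fun e => Nat.blt e 8) = true) _
        (by rw [List.getD_eq_getElem _ _ hg']; exact List.getElem_mem hg' : emb.getD g 0 ∈ emb)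
      simpa [ON122760.letters] using this
    have hgv : (gen g).1 = ON122760.letters.phi _ (emb.getD g 0) := by simp only [gen, dif_pos hg']
    rw [hgv, hρ _ hl]
    show get32 ON122760.orbPts3 ((ρJ (gen g))⁻¹ m).1 = _
    rw [hgen g hg m]
    exact h
  have hrel : ∀ (x : ONOrbit.J) (m : Fin 5586), f ((ρJ x)⁻¹ m) = (ρ x.1)⁻¹ (f m) := by
    rintro ⟨x, hx⟩
    induction hx using Subgroup.closure_induction with
    | mem x hx =>
      obtain ⟨l, hl, rfl⟩ := hx
      obtain ⟨e, he, rfl⟩ := List.mem_map.1 hl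
      obtain ⟨g, hg, rfl⟩ := List.mem_iff_getElem.1 he
      intro m
      have hh : (⟨_, Subgroup.subset_closure ⟨[emb[g]], hl, rfl⟩⟩ : ONOrbit.J) = gen g := by
        apply Subtype.ext
        simp only [gen, dif_pos (show g < emb.length from hg)]
        rw [List.getD_eq_getElem _ _ (show g < emb.length from hg)]
        simp
      have := hrelGen g hg m
      rw [← hh] at this
      exact this
    | one => intro m; simp [show (⟨1, _⟩ : ONOrbit.J) = 1 from rfl]
    | mul a b ha hb iha ihb =>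
      intro m
      let a' : ONOrbit.J := ⟨a, ha⟩
      let b' : ONOrbit.J := ⟨b, hb⟩
      show f ((ρJ (a' * b'))⁻¹ m) = (ρ (a' * b').1)⁻¹ (f m)
      rw [map_mul, mul_inv_rev,
        Equiv.Perm.mul_apply, ihb, iha, Subgroup.coe_mul, map_mul, mul_inv_rev, Equiv.Perm.mul_apply]
    | inv a ha iha =>
      intro m
      have h2 := iha (ρJ ⟨a, ha⟩ m)
      let a' : ONOrbit.J := ⟨a, ha⟩
      show f ((ρJ a'⁻¹)⁻¹ m) = (ρ (a'⁻¹).1)⁻¹ (f m)
      rw [map_inv, inv_inv, Subgroup.coe_inv, map_inv,
        inv_inv]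
      have hcancel : (ρJ a')⁻¹ (ρJ a' m) = m := by simp
      have h3 : f ((ρJ a')⁻¹ (ρJ a' m)) = (ρ a'.1)⁻¹ (f (ρJ a' m)) := h2
      rw [hcancel] at h3
      rw [h3]
      simp
  -- faithful base
  have hP : ∀ k < 122, ∃ x : ONOrbit.J, ∀ i : Fin 5586,
      ((ρJ x)⁻¹ i).1 = get32 ONSlp.perms (k * 5586 + i.1) := slp_sound ρJ gen hgen ONSlp.slp_ok
  have hbJ : ∀ h : ONOrbit.J, (∀ b : Fin 5586, b.1 ∈ bJ → (ρJ h)⁻¹ b = b) → h = 1 := fun h hh =>
    Tight.base_eq_one ρJ hJinj hP _ ONSlp.levels_ok 3753792 hfix ONSlp.size_eq h hh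
  have hbG : ∀ g : ONOrbit.G, (∀ b : Fin 122760, b.1 ∈ bG → (ρ g)⁻¹ b = b) → g = 1 := by
    intro g hg
    have h0 : g⁻¹ ∈ ONOrbit.J := (hst g⁻¹).2 (by
      have := hg ⟨0, by omega⟩ (by simp [bG])
      rwa [← map_inv] at this)
    have hgJ : g ∈ ONOrbit.J := by simpa using inv_mem h0
    obtain ⟨e0, e1, e3, e5, e9⟩ := bases_ok
    have : (⟨g, hgJ⟩ : ONOrbit.J) = 1 := by
      refine hbJ _ fun b hb => ?_
      have hfinj : Function.Injective f := by
        intro u v huv
        have h' : get32 ON122760.orbPts3 u.1 = get32 ON122760.orbPts3 v.1 := congrArg Fin.val huv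
        apply Fin.ext
        rw [← (hj u.1 u.2).1.2, h', (hj v.1 v.2).1.2]
      refine hfinj ?_
      rw [hrel]
      refine hg _ ?_
      show get32 ON122760.orbPts3 b.1 ∈ bG
      simp only [bJ, List.mem_cons, List.not_mem_nil, or_false] at hb
      rcases hb with h | h | h | h | h <;> rw [h] <;> simp [bG, e0, e1, e3, e5, e9]
    exact congrArg Subtype.val this
  let M := letterModel ON122760.letters ON122760.pres ρ hρ hinj bG
    (fun b hb => by simp only [bG, List.mem_cons, List.not_mem_nil, or_false] at hb; omega) hbG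
  let MJ : Model ONOrbit.J 5586 :=
    { ρ := ρJ, inj := hJinj, E := 6, el := gen, T := T5586,
      hel := fun g hg m => by simp only [T5586, letTab, Nat.add_eq, Nat.mul_eq]; exact hgen g hg m,
      bs := bJ, bs_lt := fun b hb => by simp only [bJ, List.mem_cons, List.not_mem_nil, or_false] at hb; omega,
      base := hbJ }
  have hloc : ∀ w ∈ wordsJ ++ gensX ++ gensS, ∀ k ∈ w, k < 6 := by
    intro w hw k hk
    have := List.all_eq_true.1 (List.all_eq_true.1 ws_local w hw) k hk
    simpa [Nat.blt_eq] using this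
  have hMJ : ∀ w : List ℕ, (∀ k ∈ w, k < 6) → M.val (embWord emb w) = (MJ.val w).1 := by
    intro w
    induction w with
    | nil => intro _; rfl
    | cons k w ih =>
      intro hw
      have hk : k < emb.length := hw k List.mem_cons_self
      simp only [embWord, Model.val, List.map_cons, List.prod_cons, Subgroup.coe_mul] at ih ⊢
      rw [ih fun a ha => hw a (List.mem_cons_of_mem _ ha)]
      congr 1
      show ON122760.letters.phi _ (emb.getD k 0) = (gen k).1
      simp only [gen, dif_pos hk]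
  let MJ' := MJ.extend wordsJ fun w hw => hloc w (List.mem_append_left _ (List.mem_append_left _ hw))
  have hMJ' : ∀ j, MJ'.el (6 + j) = MJ.val (wordsJ.getD j []) := by
    intro j
    show (if 6 + j < 6 then _ else _) = _
    rw [if_neg (by omega), Nat.add_sub_cancel_left]
  have hPX := wordsTabled_sound (W := gensX) ρJ gen hgen
    (fun w hw => hloc w (List.mem_append_left _ (List.mem_append_right _ hw))) tables_ok.1
  have hPS := wordsTabled_sound (W := gensS) ρJ gen hgen
    (fun w hw => hloc w (List.mem_append_right _ hw)) tables_ok.2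
  -- the centralisers in J
  have hlenJ : wordsJ.length = 2 + xsJ.length + csJ.length := by
    simp only [wordsJ, List.length_append, List.length_cons, List.length_nil]
  have hcJx : ∀ h : ONOrbit.J, h * MJ.val wxJ = MJ.val wxJ * h → ∃ w ∈ xsJ, h = MJ.val w := by
    intro h hh
    obtain ⟨u, hu, hhu⟩ := MJ'.cent hPX levX0 chainX chainX_ok.1
      (tight_of_levels ρJ hPX _ [] chainX_ok.1 (chainX_ok.2 ▸ hfix))
      (show 6 < 6 + wordsJ.length by omega) (List.range' 8 xsJ.length)
      (fun u hu => by rw [List.mem_range'_1] at hu; show u < 6 + wordsJ.length; omega)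
      centX_ok.1 centX_ok.2 h (by rw [show (6 : ℕ) = 6 + 0 from rfl, hMJ' 0]; exact hh)
    rw [List.mem_range'_1] at hu
    obtain ⟨k, rfl⟩ : ∃ k, u = 6 + (2 + k) := ⟨u - 8, by omega⟩
    rw [hMJ'] at hhu
    refine ⟨_, ?_, hhu⟩
    have hk : k < xsJ.length := by omega
    rw [wordsJ, List.getD_append _ _ _ _ (by simp; omega), List.getD_append_right _ _ _ _ (by simp),
      show 2 + k - [wxJ, wsJ].length = k from Nat.add_sub_cancel_left 2 k, List.getD_eq_getElem _ _ hk]
    exact List.getElem_mem hk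
  have hcJs : ∀ h : ONOrbit.J, h * MJ.val wsJ = MJ.val wsJ * h → ∃ w ∈ csJ, h = MJ.val w := by
    intro h hh
    obtain ⟨u, hu, hhu⟩ := MJ'.cent hPS levS0 chainS chainS_ok.1
      (tight_of_levels ρJ hPS _ [] chainS_ok.1 (chainS_ok.2 ▸ hfix))
      (show 7 < 6 + wordsJ.length by omega) (List.range' (8 + xsJ.length) csJ.length)
      (fun u hu => by rw [List.mem_range'_1] at hu; show u < 6 + wordsJ.length; omega)
      centS_ok.1 centS_ok.2 h (by rw [show (7 : ℕ) = 6 + 1 from rfl, hMJ' 1]; exact hh)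
    rw [List.mem_range'_1] at hu
    obtain ⟨k, rfl⟩ : ∃ k, u = 6 + (2 + xsJ.length + k) := ⟨u - (8 + xsJ.length), by omega⟩
    rw [hMJ'] at hhu
    refine ⟨_, ?_, hhu⟩
    have hk : k < csJ.length := by omega
    rw [wordsJ, List.getD_append_right _ _ _ _ (by simp only [List.length_append, List.length_cons, List.length_nil]; omega),
      show 2 + xsJ.length + k - ([wxJ, wsJ] ++ xsJ).length = k by
        simp only [List.length_append, List.length_cons, List.length_nil]; omega,
      List.getD_eq_getElem _ _ hk]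
    exact List.getElem_mem hk
  have hglobal : ∀ w ∈ [wx, ws, wt] ++ extraWords, ∀ k ∈ w, k < M.E := by
    intro w hw k hk
    have := List.all_eq_true.1 (List.all_eq_true.1 words_ok w hw) k hk
    simp only [Nat.blt_eq] at this
    exact this
  have hx' : M.val wx = (MJ.val wxJ).1 := hMJ _ (hloc _ (by simp [wordsJ]))
  have hs' : M.val ws = (MJ.val wsJ).1 := hMJ _ (hloc _ (by simp [wordsJ]))
  have hstab : ∀ g : ONOrbit.G, (ρ g)⁻¹ ⟨0, by omega⟩ = ⟨0, by omega⟩ → g ∈ ONOrbit.J := fun g hg => by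
    have : g⁻¹ ∈ ONOrbit.J := (hst g⁻¹).2 (by rwa [map_inv])
    simpa using inv_mem this
  have happ : ∀ (w : List ℕ), (∀ k ∈ w, k < M.E) → ∀ i : Fin 122760,
      ((ρ (M.val w))⁻¹ i).1 = app T122 w i.1 := fun w hw i => M.app_spec w hw i
  have hfixed : ∀ (w : List ℕ), (∀ k ∈ w, k < M.E) → ∀ g : ONOrbit.G, g * M.val w = M.val w * g →
      ∀ i : Fin 122760, (ρ (M.val w))⁻¹ i = i → app T122 w ((ρ g)⁻¹ i).1 = ((ρ g)⁻¹ i).1 := by
    intro w hw g hg i hi
    rw [← happ w hw, ← Equiv.Perm.mul_apply, ← mul_inv_rev, ← map_mul, hg, map_mul, mul_inv_rev,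
      Equiv.Perm.mul_apply, hi]
  have hz : ∀ w : List ℕ, (∀ k ∈ w, k < 6) →
      (ρ (M.val (embWord emb w)))⁻¹ ⟨0, by omega⟩ = ⟨0, by omega⟩ := by
    intro w hw
    rw [hMJ w hw]
    have h := (hst _).1 (inv_mem (MJ.val w).2)
    rwa [map_inv] at h
  refine card_out_two_lettersK ON122760.letters ON122760.pres hS ON122760.letters_ok
    ON122760.table_ok.col (by decide +kernel) M rfl rfl img img_ok rels_ok img_ne (by decide) wx ws wt
    extraWords tripK reps words_ok (by decide +kernel) trip_ok cand_ok gen3 gen3_ok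
    (by norm_num [tripK]) (by rw [hG]; norm_num [tripK]) ?_ ?_
  · intro g hg
    have hj0 := hfixed wx (hglobal _ (by simp)) g hg _ (hz _ (hloc _ (by simp [wordsJ])))
    have hgJ : g ∈ ONOrbit.J := by
      refine hstab g (Fin.ext ?_)
      have hlt : ((ρ g)⁻¹ ⟨0, by omega⟩).1 < 122760 := Fin.isLt _
      generalize ((ρ g)⁻¹ ⟨0, by omega⟩).1 = i at hj0 hlt ⊢
      have hh : (!(Nat.beq (app T122 wx i) i) || Nat.beq i 0) = true := by
        rcases Nat.lt_or_ge i 61380 with h | h
        · exact allFrom_iff.1 fixX_part0 i (by omega) (by omega)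
        · exact allFrom_iff.1 fixX_part1 i h (by omega)
      rw [hj0] at hh
      simpa using hh
    obtain ⟨w, hw, hwh⟩ := hcJx ⟨g, hgJ⟩ (Subtype.ext (by
      rw [Subgroup.coe_mul, Subgroup.coe_mul, ← hx']; exact hg))
    have hmem : embWord emb w ∈ tripK.X.map (fun u => (tripWords img wx ws wt extraWords).getD (u - 8) []) := by
      rw [trip_lists.1]; exact List.mem_map.2 ⟨w, hw, rfl⟩
    obtain ⟨u, hu, hue⟩ := List.mem_map.1 hmem
    have h8 := List.all_eq_true.1 trip_lists.2.2 u (List.mem_append_left _ hu)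
    rw [Nat.ble_eq] at h8
    refine ⟨u, hu, ?_, h8⟩
    show g = M.val ((tripWords img wx ws wt extraWords).getD (u - 8) [])
    rw [hue, hMJ w (hloc w (by simp [wordsJ, hw])), ← hwh]
  · intro g hg
    have hj0 := hfixed ws (hglobal _ (by simp)) g hg _ (hz _ (hloc _ (by simp [wordsJ])))
    have hlt : ((ρ g)⁻¹ ⟨0, by omega⟩).1 < 122760 := Fin.isLt _
    have hmem : ((ρ g)⁻¹ ⟨0, by omega⟩).1 ∈ goodPts ++ badPts := by
      generalize ((ρ g)⁻¹ ⟨0, by omega⟩).1 = i at hj0 hlt ⊢
      have hh : (!(Nat.beq (app T122 ws i) i) || (goodPts ++ badPts).any (Nat.beq i)) = true := by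
        rcases Nat.lt_or_ge i 30690 with h | h
        · exact allFrom_iff.1 fixS_part0 i (by omega) (by omega)
        rcases Nat.lt_or_ge i 61380 with h' | h'
        · exact allFrom_iff.1 fixS_part1 i h (by omega)
        rcases Nat.lt_or_ge i 92070 with h'' | h''
        · exact allFrom_iff.1 fixS_part2 i h' (by omega)
        · exact allFrom_iff.1 fixS_part3 i h'' (by omega)
      rw [hj0] at hh
      simpa using hh
    have hmove : ∀ r : List ℕ, (∀ k ∈ r, k < M.E) → app T122 r 0 = ((ρ g)⁻¹ ⟨0, by omega⟩).1 →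
        g * (M.val r)⁻¹ ∈ ONOrbit.J := by
      intro r hr hr0
      refine hstab _ ?_
      rw [map_mul, map_inv, mul_inv_rev, inv_inv, Equiv.Perm.mul_apply]
      have : (ρ g)⁻¹ ⟨0, by omega⟩ = (ρ (M.val r))⁻¹ ⟨0, by omega⟩ := by
        apply Fin.ext; rw [happ r hr]; exact hr0.symm
      rw [this]
      simp
    rcases List.mem_append.1 hmem with hgood | hbad
    · obtain ⟨b, hb, hbe⟩ := List.mem_iff_getElem.1 hgood
      have h := allBelow_iff.1 good_ok.2 b hb
      simp only [Bool.and_eq_true, List.all_eq_true, Nat.blt_eq, Nat.beq_eq] at h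
      obtain ⟨⟨hc, hc0⟩, hcomm⟩ := h
      rw [List.getD_eq_getElem _ _ hb, hbe] at hc0
      have hcb : b < conn.length := good_ok.1 ▸ hb
      have hcmem : conn.getD b [] ∈ conn := by
        rw [List.getD_eq_getElem _ _ hcb]; exact List.getElem_mem hcb
      generalize conn.getD b [] = r at hc hc0 hcomm hcmem
      have hc' : ∀ k ∈ r, k < M.E := hc
      have hgJ := hmove r hc' hc0
      have hwsE : ∀ k ∈ ws, k < M.E := hglobal _ (by simp)
      have hcm := M.eq_of_eqW (w₁ := ws ++ r) (w₂ := r ++ ws)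
        (fun k hk => (List.mem_append.1 hk).elim (hwsE k) (hc' k))
        (fun k hk => (List.mem_append.1 hk).elim (hc' k) (hwsE k)) hcomm
      simp only [Model.val, List.map_append, List.prod_append] at hcm
      have hcomm' : (g * (M.val r)⁻¹) * M.val ws = M.val ws * (g * (M.val r)⁻¹) := by
        have hr' : (M.val r)⁻¹ * M.val ws = M.val ws * (M.val r)⁻¹ := by
          rw [inv_mul_eq_iff_eq_mul, ← mul_assoc, show M.val r * M.val ws = M.val ws * M.val r from hcm.symm,
            mul_inv_cancel_right]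
        rw [mul_assoc, hr', ← mul_assoc, hg, mul_assoc]
      obtain ⟨w, hw, hwh⟩ := hcJs ⟨_, hgJ⟩ (Subtype.ext (by
        rw [Subgroup.coe_mul, Subgroup.coe_mul, ← hs']; exact hcomm'))
      have hmem' : embWord emb w ++ r ∈
          tripK.U.map (fun u => (tripWords img wx ws wt extraWords).getD (u - 8) []) := by
        have ha : embWord emb w ++ r ∈ csJ.flatMap fun a => conn.map fun c => embWord emb a ++ c :=
          List.mem_flatMap.2 ⟨w, hw, List.mem_map.2 ⟨r, hcmem, rfl⟩⟩
        obtain ⟨z, hz, hze⟩ := List.any_eq_true.1 (List.all_eq_true.1 trip_lists.2.1 _ ha)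
        rw [eqList_eq hze]
        exact hz
      obtain ⟨u, hu, hue⟩ := List.mem_map.1 hmem'
      have h8 := List.all_eq_true.1 trip_lists.2.2 u (List.mem_append_right _ hu)
      rw [Nat.ble_eq] at h8
      refine ⟨u, hu, ?_, h8⟩
      show g = M.val ((tripWords img wx ws wt extraWords).getD (u - 8) [])
      rw [hue]
      have hv : M.val (embWord emb w ++ r) = M.val (embWord emb w) * M.val r := by
        simp only [Model.val, List.map_append, List.prod_append]
      rw [hv, hMJ w (hloc w (by simp [wordsJ, hw])), ← hwh]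
      simp
    · exfalso
      obtain ⟨b, hb, hbe⟩ := List.mem_iff_getElem.1 hbad
      have h := allBelow_iff.1 bad_ok.2 b hb
      simp only [Bool.and_eq_true, List.all_eq_true, Nat.blt_eq, Nat.beq_eq, Bool.not_eq_true'] at h
      obtain ⟨hc, hc0⟩ := h
      have hcnt := count_ne b hb
      rw [List.getD_eq_getElem _ _ hb, hbe] at hc0
      generalize badReps.getD b [] = r at hc hc0 hcnt
      have hc' : ∀ k ∈ r, k < M.E := hc
      have hgJ := hmove r hc' hc0
      let h : ONOrbit.J := ⟨_, hgJ⟩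
      have hwsE : ∀ k ∈ ws, k < M.E := hglobal _ (by simp)
      have hws3 := ws3_ok
      simp only [Bool.and_eq_true, List.all_eq_true, Nat.blt_eq] at hws3
      have hs3' : ∀ k ∈ ws ++ ws ++ ws, k < M.E := fun k hk => by
        simp only [List.mem_append, or_self] at hk; exact hwsE k hk
      have hs3 : ∀ k ∈ ws3, k < M.E := hws3.1
      have hv3 : M.val ws3 = M.val (ws ++ ws ++ ws) := M.eq_of_eqW hs3 hs3' hws3.2
      have hg3 : g * M.val ws3 = M.val ws3 * g := by
        rw [hv3]
        have hv : M.val (ws ++ ws ++ ws) = M.val ws * M.val ws * M.val ws := by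
          simp only [Model.val, List.map_append, List.prod_append]
        rw [hv]
        exact ((Commute.mul_right (hg : Commute g (M.val ws)) hg).mul_right hg)
      have key : ∀ m : Fin 5586, movedFixed3 r ((ρJ h)⁻¹ m).1 = movedFixed3 [] m.1 := by
        intro m
        have h1 : app T122 r (get32 ON122760.orbPts3 ((ρJ h)⁻¹ m).1) = ((ρ g)⁻¹ (f m)).1 := by
          show app T122 r (f ((ρJ h)⁻¹ m)).1 = _
          rw [← happ r hc', hrel, ← Equiv.Perm.mul_apply, ← mul_inv_rev, ← map_mul]
          simp [h]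
        simp only [movedFixed3, force_eq]
        rw [h1]
        show Nat.beq _ _ = Nat.beq (app T122 ws3 (f m).1) (f m).1
        rw [← happ _ hs3, ← happ _ hs3, Bool.eq_iff_iff, Nat.beq_eq, Nat.beq_eq, ← Fin.ext_iff,
          ← Fin.ext_iff, ← Equiv.Perm.mul_apply, ← mul_inv_rev, ← map_mul, hg3, map_mul, mul_inv_rev,
          Equiv.Perm.mul_apply]
        exact (ρ g)⁻¹.injective.eq_iff
      have : cntBelow 5586 (movedFixed3 r) = cntBelow 5586 (movedFixed3 []) := by
        rw [cntBelow_eq, cntBelow_eq]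
        refine (Finset.card_equiv (ρJ h)⁻¹ fun m => ?_).symm
        simp only [Finset.mem_filter, Finset.mem_univ, true_and, key m]
      exact hcnt this

end ONOut

end Cfsg.Agent.Lib.CosetEnum
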